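import Mathlib
import Groth.Prelude.Def_CAlgX
import Groth.Agent.RegLocal.Basic

/-!
# The deviation of a presentation by regular local rings
-/

set_option autoImplicit false
set_option linter.style.haveILetI false
universe u

open IsLocalRing

namespace Groth.Agent.CIDevLib

variable {A : Type u} [CommRing A] {e : ℕ} (x : Fin e → A)

/-- The relations between the elements. -/
def Rel : Submodule A (Fin e → A) := LinearMap.ker (Fintype.linearCombination A x)

theorem mem_rel {a : Fin e → A} : a ∈ Rel x ↔ ∑ i, a i * x i = 0 := by
  simp [Rel, Fintype.linearCombination_apply]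

/-- The trivial relations between the elements. -/
def Triv : Submodule A (Fin e → A) :=
  Submodule.span A {v | ∃ i j : Fin e, v = Pi.single i (x j) - Pi.single j (x i)}

theorem triv_mem {i j : Fin e} : Pi.single i (x j) - Pi.single j (x i) ∈ Triv x :=
  Submodule.subset_span ⟨i, j, rfl⟩

theorem triv_le_rel : Triv x ≤ Rel x := by
  refine Submodule.span_le.2 ?_
  rintro _ ⟨i, j, rfl⟩
  rw [SetLike.mem_coe, mem_rel]
  simp [sub_mul, Finset.sum_sub_distrib, Pi.single_apply, ite_mul, mul_comm (x i)]

/-- The relations are generated by `a` modulo the trivial ones. -/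
def Gen {r : ℕ} (a : Fin r → Fin e → A) : Prop := Submodule.span A (Set.range a) ⊔ Triv x = Rel x

variable [IsNoetherianRing A]

theorem exists_gen : ∃ (r : ℕ) (a : Fin r → Fin e → A), Gen x a := by
  obtain ⟨r, a, ha⟩ := Submodule.fg_iff_exists_fin_generating_family.1 (IsNoetherian.noetherian (Rel x))
  exact ⟨r, a, by rw [Gen, ha]; exact sup_eq_left.2 (triv_le_rel x)⟩

open Classical in
/-- The least number of generators of the relations modulo the trivial ones. -/
noncomputable def dev : ℕ := Nat.find (exists_gen x)

theorem exists_gen_dev : ∃ a : Fin (dev x) → Fin e → A, Gen x a := by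
  classical exact Nat.find_spec (exists_gen x)

theorem dev_le {r : ℕ} {a : Fin r → Fin e → A} (h : Gen x a) : dev x ≤ r := by
  classical exact Nat.find_le ⟨a, h⟩

/-- Weakly regular sequences have only trivial relations. -/
theorem rel_le_triv {B : Type u} [CommRing B] : ∀ {n : ℕ} (y : Fin n → B),
    RingTheory.Sequence.IsWeaklyRegular B (List.ofFn y) → Rel y ≤ Triv y := by
  intro n
  induction n with
  | zero => intro y _ a _; rw [Subsingleton.elim a 0]; exact zero_mem _
  | succ n ih =>
    intro y hy a ha
    rw [mem_rel, Fin.sum_univ_castSucc] at ha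
    rw [List.ofFn_succ', List.concat_eq_append, RingTheory.Sequence.isWeaklyRegular_append_iff] at hy
    obtain ⟨hy1, hy2⟩ := hy
    have hreg := ((RingTheory.Sequence.isWeaklyRegular_singleton_iff _ _).1 hy2)
    have hmem : a (Fin.last n) ∈ Ideal.span (Set.range fun i : Fin n => y i.castSucc) := by
      have hJ : Ideal.ofList (List.ofFn fun i : Fin n => y i.castSucc) • (⊤ : Submodule B B) =
          Ideal.span (Set.range fun i : Fin n => y i.castSucc) := by
        rw [smul_eq_mul, Ideal.mul_top, Ideal.ofList]
        congr 1
        ext z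
        simp [List.mem_ofFn']
      rw [← hJ, ← Submodule.Quotient.mk_eq_zero]
      refine hreg.right_eq_zero_of_smul ?_
      rw [← Submodule.Quotient.mk_smul, Submodule.Quotient.mk_eq_zero, hJ, smul_eq_mul, mul_comm]
      rw [← neg_eq_iff_add_eq_zero] at ha
      rw [← ha]
      exact neg_mem (Ideal.sum_mem _ fun i _ => Ideal.mul_mem_left _ _ (Ideal.subset_span ⟨i, rfl⟩))
    obtain ⟨b, hb⟩ := (Ideal.mem_span_range_iff_exists_fun).1 hmem
    let a' : Fin n → B := fun i => a i.castSucc + b i * y (Fin.last n)
    have ha' : a' ∈ Triv fun i => y i.castSucc := ih _ hy1 ((mem_rel _).2 (by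
      rw [← hb] at ha
      simp only [a', add_mul, Finset.sum_add_distrib]
      rw [Finset.sum_mul] at ha
      refine Eq.trans ?_ ha
      congr 1
      exact Finset.sum_congr rfl fun i _ => by ring))
    let E : (Fin n → B) →ₗ[B] (Fin (n + 1) → B) :=
      { toFun := fun v => Fin.snoc v 0
        map_add' := fun v w => by ext i; cases i using Fin.lastCases <;> simp
        map_smul' := fun c v => by ext i; cases i using Fin.lastCases <;> simp }
    have hE : ∀ v ∈ Triv (fun i : Fin n => y i.castSucc), E v ∈ Triv y := fun v hv => by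
      induction hv using Submodule.span_induction with
      | mem v hv =>
        obtain ⟨i, j, rfl⟩ := hv
        convert triv_mem y (i := i.castSucc) (j := j.castSucc) using 1
        ext k
        cases k using Fin.lastCases <;> simp [E, Pi.single_apply, (Fin.castSucc_lt_last _).ne']
      | zero => rw [map_zero]; exact zero_mem _
      | add v w _ _ hv hw => rw [map_add]; exact add_mem hv hw
      | smul c v _ hv => rw [map_smul]; exact Submodule.smul_mem _ c hv
    have key : a = E a' - ∑ i, b i • (Pi.single i.castSucc (y (Fin.last n)) - Pi.single (Fin.last n) (y i.castSucc)) := by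
      ext k
      cases k using Fin.lastCases with
      | last =>
        simp [E, Finset.sum_apply, Pi.single_apply, (Fin.castSucc_lt_last _).ne']
        exact hb.symm
      | cast k => simp [E, a', Finset.sum_apply, Pi.single_apply, (Fin.castSucc_lt_last _).ne]
    rw [key]
    exact sub_mem (hE _ ha') (Submodule.sum_mem _ fun i _ => Submodule.smul_mem _ _ (triv_mem y))

variable [IsLocalRing A]

/-- A presentation by a regular local ring with the same embedding dimension. -/
theorem spanFinrank_ker_eq_dev {B : Type u} [CommRing B] [IsRegularLocalRing B] (f : B →+* A)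
    (hf : Function.Surjective f) (he : ringKrullDim B = e) (y : Fin e → B)
    (hy : Ideal.span (Set.range y) = maximalIdeal B) (hyx : ∀ i, f (y i) = x i) :
    (RingHom.ker f).spanFinrank = dev x := by
  classical
  have hI : RingHom.ker f ≤ maximalIdeal B := le_maximalIdeal (RingHom.ker_ne_top f)
  have hexp : ∀ z ∈ RingHom.ker f, ∃ b : Fin e → B, ∑ i, b i * y i = z := fun z hz =>
    Ideal.mem_span_range_iff_exists_fun.1 (hy.symm ▸ hI hz)
  have hB : Rel y ≤ Triv y := rel_le_triv y (RegLocal.isRegular_of_generators (R := B) he y hy).toIsWeaklyRegular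
  let F : (Fin e → B) →ₛₗ[f] (Fin e → A) :=
    { toFun := fun b i => f (b i)
      map_add' := fun b c => funext fun i => map_add f _ _
      map_smul' := fun r b => funext fun i => map_mul f _ _ }
  have hF : ∀ v ∈ Triv y, F v ∈ Triv x := fun v hv => by
    induction hv using Submodule.span_induction with
    | mem v hv =>
      obtain ⟨i, j, rfl⟩ := hv
      convert triv_mem x (i := i) (j := j) using 1
      ext k
      simp only [F, LinearMap.coe_mk, AddHom.coe_mk, Pi.sub_apply, map_sub, Pi.single_apply, apply_ite f,
        map_zero, hyx]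
    | zero => rw [map_zero]; exact zero_mem _
    | add v w _ _ hv hw => rw [map_add]; exact add_mem hv hw
    | smul c v _ hv => rw [map_smulₛₗ]; exact Submodule.smul_mem _ _ hv
  refine le_antisymm ?_ ?_
  · obtain ⟨a, ha⟩ := exists_gen_dev x
    choose b hb using fun j i => hf (a j i)
    let z : Fin (dev x) → B := fun j => ∑ i, b j i * y i
    have hz : ∀ j, z j ∈ RingHom.ker f := fun j => by
      rw [RingHom.mem_ker, map_sum]
      simp only [map_mul, hb, hyx]
      exact (mem_rel x).1 (ha.le (Submodule.mem_sup_left (Submodule.subset_span ⟨j, rfl⟩)))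
    have hIz : RingHom.ker f ≤ Ideal.span (Set.range z) := by
      refine Submodule.le_of_le_smul_of_le_jacobson_bot (RingHom.ker f).fg_of_isNoetherianRing
        (maximalIdeal_le_jacobson _) fun w hw => ?_
      obtain ⟨c, hc⟩ := hexp w hw
      have hFc : F c ∈ Rel x := (mem_rel x).2 (by
        have := congrArg f hc
        simp only [map_sum, map_mul, hyx, (RingHom.mem_ker).1 hw] at this
        exact this)
      rw [← ha] at hFc
      obtain ⟨u, hu, t, ht, hut⟩ := Submodule.mem_sup.1 hFc
      obtain ⟨v, rfl⟩ := (Submodule.mem_span_range_iff_exists_fun A).1 hu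
      choose v' hv' using fun j => hf (v j)
      have hlift : ∀ t ∈ Triv x, ∃ t' : Fin e → B, F t' = t ∧ ∑ i, t' i * y i = 0 := fun t ht => by
        induction ht using Submodule.span_induction with
        | mem v hv =>
          obtain ⟨i, j, rfl⟩ := hv
          exact ⟨Pi.single i (y j) - Pi.single j (y i), by
            ext k
            simp only [F, LinearMap.coe_mk, AddHom.coe_mk, Pi.sub_apply, map_sub, Pi.single_apply, apply_ite f,
              map_zero, hyx], (mem_rel y).1 (triv_le_rel y (triv_mem y))⟩
        | zero => exact ⟨0, map_zero F, by simp⟩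
        | add v w _ _ hv hw =>
          obtain ⟨v', h1, h2⟩ := hv
          obtain ⟨w', h3, h4⟩ := hw
          exact ⟨v' + w', by rw [map_add, h1, h3], by simp [add_mul, Finset.sum_add_distrib, h2, h4]⟩
        | smul c v _ hv =>
          obtain ⟨v', h1, h2⟩ := hv
          obtain ⟨c', rfl⟩ := hf c
          exact ⟨c' • v', by rw [map_smulₛₗ, h1], by
            simp only [Pi.smul_apply, smul_eq_mul, mul_assoc, ← Finset.mul_sum, h2, mul_zero]⟩
      obtain ⟨t', ht', ht'0⟩ := hlift t ht
      let δ : Fin e → B := c - (∑ j, v' j • b j) - t'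
      have hδ : ∀ i, δ i ∈ RingHom.ker f := fun i => by
        have h := congrFun hut i
        simp only [Pi.add_apply, Finset.sum_apply, Pi.smul_apply, smul_eq_mul] at h
        have h' : f (t' i) = t i := congrFun ht' i
        show f (δ i) = 0
        simp only [δ, Pi.sub_apply, Finset.sum_apply, Pi.smul_apply, smul_eq_mul, map_sub, map_sum, map_mul,
          hv', hb, h']
        rw [show f (c i) = (F c) i from rfl, ← h]
        ring
      have hw' : w = ∑ j, v' j * z j + ∑ i, δ i * y i := by
        simp only [δ, Pi.sub_apply, Finset.sum_apply, Pi.smul_apply, smul_eq_mul, sub_mul,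
          Finset.sum_sub_distrib, ht'0, sub_zero, hc, Finset.sum_mul, z, Finset.mul_sum]
        rw [Finset.sum_comm (f := fun i j => v' j * b j i * y i)]
        simp [mul_assoc]
      rw [hw']
      exact Submodule.add_mem_sup (Ideal.sum_mem _ fun j _ => Ideal.mul_mem_left _ _ (Ideal.subset_span ⟨j, rfl⟩))
        (Submodule.sum_mem _ fun i _ => by
          rw [mul_comm, smul_eq_mul]
          exact Ideal.mul_mem_mul (hy ▸ Ideal.subset_span ⟨i, rfl⟩) (hδ i))
    have heq : RingHom.ker f = Ideal.span (Set.range z) :=
      le_antisymm hIz (Ideal.span_le.2 (Set.range_subset_iff.2 hz))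
    rw [heq]
    refine (Submodule.spanFinrank_span_le_ncard_of_finite (Set.finite_range z)).trans ?_
    rw [← Set.image_univ]
    exact (Set.ncard_image_le Set.finite_univ).trans_eq (by rw [Set.ncard_univ, Nat.card_fin])
  · obtain ⟨s, hs, hsp⟩ := Submodule.FG.exists_span_finset_card_eq_spanFinrank (RingHom.ker f).fg_of_isNoetherianRing
    let g : Fin (RingHom.ker f).spanFinrank → B := fun j => s.equivFin.symm (finCongr hs.symm j)
    have hg : Ideal.span (Set.range g) = RingHom.ker f := by
      conv_rhs => rw [← hsp]
      show Ideal.span _ = Ideal.span _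
      congr 1
      ext w
      exact ⟨fun ⟨j, hj⟩ => hj ▸ (s.equivFin.symm _).2,
        fun hw => ⟨finCongr hs (s.equivFin ⟨w, hw⟩), by simp [g]⟩⟩
    choose b hb using fun j => hexp (g j) (hg ▸ Ideal.subset_span ⟨j, rfl⟩)
    refine dev_le x (a := fun j => F (b j)) (le_antisymm (sup_le (Submodule.span_le.2 ?_) (triv_le_rel x)) fun a ha => ?_)
    · rintro _ ⟨j, rfl⟩
      refine (mem_rel x).2 ?_
      have := congrArg f (hb j)
      simp only [map_sum, map_mul, hyx,
        (RingHom.mem_ker).1 (hg ▸ Ideal.subset_span ⟨j, rfl⟩ : g j ∈ RingHom.ker f)] at this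
      exact this
    · choose c hc using fun i => hf (a i)
      have hw : ∑ i, c i * y i ∈ RingHom.ker f := by
        rw [RingHom.mem_ker, map_sum]
        simp only [map_mul, hc, hyx]
        exact (mem_rel x).1 ha
      rw [← hg] at hw
      obtain ⟨v, hv⟩ := Ideal.mem_span_range_iff_exists_fun.1 hw
      have hrel : c - ∑ j, v j • b j ∈ Rel y := (mem_rel y).2 (by
        simp only [Pi.sub_apply, Finset.sum_apply, Pi.smul_apply, smul_eq_mul, sub_mul, Finset.sum_sub_distrib,
          Finset.sum_mul]
        rw [Finset.sum_comm, ← hv, sub_eq_zero]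
        refine Finset.sum_congr rfl fun j _ => ?_
        rw [← hb j, Finset.mul_sum]
        simp [mul_assoc])
      have h1 := hF _ (hB hrel)
      rw [map_sub, map_sum, show F c = a from funext hc] at h1
      rw [show a = (∑ j, F (v j • b j)) + (a - ∑ j, F (v j • b j)) from (add_sub_cancel _ _).symm]
      refine Submodule.add_mem_sup (Submodule.sum_mem _ fun j _ => ?_) h1
      rw [map_smulₛₗ]
      exact Submodule.smul_mem _ _ (Submodule.subset_span ⟨j, rfl⟩)

/-- Every presentation has the same difference of dimension and number of relations. -/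
theorem sub_spanFinrank_ker (hx : Ideal.span (Set.range x) = maximalIdeal A) (he : (maximalIdeal A).spanFinrank = e) :
    ∀ (d : ℕ) (B : Type u) [CommRing B] [IsRegularLocalRing B] (f : B →+* A), Function.Surjective f →
      ringKrullDim B = d → (d : ℤ) - (RingHom.ker f).spanFinrank = (e : ℤ) - dev x := by
  classical
  intro d
  induction d using Nat.strong_induction_on with
  | _ d ih => ?_
  intro B _ _ f hf hd
  have hcomap : (maximalIdeal A).comap f = maximalIdeal B :=
    eq_maximalIdeal (Ideal.comap_isMaximal_of_surjective f hf)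
  have hmap : (maximalIdeal B).map f = maximalIdeal A := by rw [← hcomap, Ideal.map_comap_of_surjective f hf]
  have hn : (maximalIdeal B).spanFinrank = d := by
    have := IsRegularLocalRing.spanFinrank_maximalIdeal (R := B)
    rw [hd] at this
    exact_mod_cast this
  by_cases hI : RingHom.ker f ≤ maximalIdeal B ^ 2
  · choose y hy using fun i => hf (x i)
    have hym : Ideal.span (Set.range y) = maximalIdeal B := by
      refine le_antisymm (Ideal.span_le.2 ?_) ?_
      · rintro _ ⟨i, rfl⟩
        rw [SetLike.mem_coe, ← hcomap, Ideal.mem_comap, hy, ← hx]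
        exact Ideal.subset_span ⟨i, rfl⟩
      · refine Submodule.le_of_le_smul_of_le_jacobson_bot (maximalIdeal B).fg_of_isNoetherianRing
          (maximalIdeal_le_jacobson _) fun b hb => ?_
        have h1 : f b ∈ (Ideal.span (Set.range y)).map f := by
          rw [Ideal.map_span, ← Set.range_comp, show f ∘ y = x from funext hy, hx, ← hmap]
          exact Ideal.mem_map_of_mem f hb
        obtain ⟨c, hc, hcb⟩ := (Ideal.mem_map_iff_of_surjective f hf).1 h1
        rw [show b = c + (b - c) by ring]
        refine Submodule.add_mem_sup hc ?_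
        rw [smul_eq_mul, ← sq]
        exact hI (by rw [RingHom.mem_ker, map_sub, hcb, sub_self])
    have h1 : d ≤ e := by
      rw [← hn, ← hym]
      refine (Submodule.spanFinrank_span_le_ncard_of_finite (Set.finite_range y)).trans ?_
      rw [← Set.image_univ]
      exact (Set.ncard_image_le Set.finite_univ).trans_eq (by rw [Set.ncard_univ, Nat.card_fin])
    have h2 : e ≤ d := by
      rw [← hn, ← he, ← hmap]
      exact Ideal.spanFinrank_map_le_of_fg _ (maximalIdeal B).fg_of_isNoetherianRing
    obtain rfl : d = e := le_antisymm h1 h2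
    rw [spanFinrank_ker_eq_dev x f hf hd y hym hy]
  · obtain ⟨z, hzI, hz2⟩ := SetLike.not_le_iff_exists.1 hI
    have hzm : z ∈ maximalIdeal B := le_maximalIdeal (RingHom.ker_ne_top f) hzI
    obtain ⟨hreg, hd1, hdq⟩ := RegLocal.quot_singleton (R := B) hd hzm hz2
    haveI := hreg
    let f₁ : B ⧸ Ideal.span {z} →+* A := Ideal.Quotient.lift _ f fun a ha => by
      obtain ⟨c, rfl⟩ := Ideal.mem_span_singleton'.1 ha
      rw [map_mul, (RingHom.mem_ker).1 hzI, mul_zero]
    have hf₁ : Function.Surjective f₁ := Ideal.Quotient.lift_surjective_of_surjective _ _ hf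
    have key := ih (d - 1) (by omega) (B ⧸ Ideal.span {z}) f₁ hf₁ hdq
    have hker : RingHom.ker f₁ = (RingHom.ker f).map (Ideal.Quotient.mk (Ideal.span {z})) :=
      Ideal.ker_quotient_lift _ _
    suffices hq : (RingHom.ker f).spanFinrank = (RingHom.ker f₁).spanFinrank + 1 by
      rw [hq]; push_cast [Nat.cast_sub hd1] at key ⊢; omega
    refine le_antisymm ?_ ?_
    · obtain ⟨s, hs, hsp⟩ :=
        Submodule.FG.exists_span_finset_card_eq_spanFinrank (RingHom.ker f₁).fg_of_isNoetherianRing
      choose t ht using fun a : B ⧸ Ideal.span {z} => Ideal.Quotient.mk_surjective a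
      have hle : RingHom.ker f = Ideal.span (insert z (t '' s)) := by
        refine le_antisymm (fun w hw => ?_) (Ideal.span_le.2 ?_)
        · have h1 : Ideal.Quotient.mk (Ideal.span {z}) w ∈ (Ideal.span (t '' s)).map (Ideal.Quotient.mk (Ideal.span {z})) := by
            rw [Ideal.map_span, ← Set.image_comp, show (Ideal.Quotient.mk (Ideal.span {z}) ∘ t) = id from funext ht,
              Set.image_id, show Ideal.span (s : Set (B ⧸ Ideal.span {z})) = _ from hsp, hker]
            exact Ideal.mem_map_of_mem _ hw
          obtain ⟨c, hc, hcw⟩ := (Ideal.mem_map_iff_of_surjective _ Ideal.Quotient.mk_surjective).1 h1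
          rw [Ideal.span_insert, show w = (w - c) + c by ring]
          exact Submodule.add_mem_sup (Ideal.Quotient.eq.1 hcw.symm) hc
        · rintro w (rfl | ⟨a, ha, rfl⟩)
          · exact hzI
          · rw [SetLike.mem_coe, RingHom.mem_ker, show f (t a) = f₁ a by (conv_rhs => rw [← ht a]); rfl]
            exact (RingHom.mem_ker).1 (hsp ▸ Ideal.subset_span ha)
      rw [hle]
      refine (Submodule.spanFinrank_span_le_ncard_of_finite ((s.finite_toSet.image t).insert z)).trans ?_
      refine (Set.ncard_insert_le z _).trans (Nat.add_le_add_right ?_ 1)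
      exact (Set.ncard_image_le s.finite_toSet).trans_eq (by rw [Set.ncard_coe_finset, hs])
    · obtain ⟨s, hs, hsp⟩ :=
        Submodule.FG.exists_span_finset_card_eq_spanFinrank (RingHom.ker f).fg_of_isNoetherianRing
      obtain ⟨c, -, hc⟩ := Submodule.mem_span_finset.1 (hsp.symm ▸ hzI : z ∈ Submodule.span B (s : Set B))
      obtain ⟨w, hws, hwu⟩ : ∃ w ∈ s, IsUnit (c w) := by
        by_contra hno
        simp only [not_exists, not_and] at hno
        refine hz2 ?_
        rw [← hc, sq]
        exact Ideal.sum_mem _ fun w hw => Ideal.mul_mem_mul ((mem_maximalIdeal _).2 (hno w hw))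
          (le_maximalIdeal (RingHom.ker_ne_top f) (hsp ▸ Ideal.subset_span hw))
      have hle : RingHom.ker f₁ = Ideal.span (Ideal.Quotient.mk (Ideal.span {z}) '' (s.erase w : Finset B)) := by
        rw [hker]
        refine le_antisymm ?_ ?_
        · conv_lhs => rw [← hsp]
          rw [show Submodule.span B (s : Set B) = Ideal.span (s : Set B) from rfl, Ideal.map_span, Ideal.span_le]
          rintro _ ⟨v, hv, rfl⟩
          by_cases hvw : v = w
          · subst hvw
            obtain ⟨u, hu⟩ := hwu
            have h0 : ∑ a ∈ s, Ideal.Quotient.mk (Ideal.span {z}) (c a) * Ideal.Quotient.mk (Ideal.span {z}) a = 0 := by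
              have := congrArg (Ideal.Quotient.mk (Ideal.span {z})) hc
              simp only [smul_eq_mul, map_sum, map_mul] at this
              rw [this]
              exact Ideal.Quotient.eq_zero_iff_mem.2 (Ideal.mem_span_singleton_self z)
            rw [← Finset.add_sum_erase s _ hws, add_eq_zero_iff_eq_neg] at h0
            rw [SetLike.mem_coe, show Ideal.Quotient.mk (Ideal.span {z}) v =
              Ideal.Quotient.mk (Ideal.span {z}) ↑u⁻¹ * (Ideal.Quotient.mk (Ideal.span {z}) (c v) * Ideal.Quotient.mk (Ideal.span {z}) v) by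
                rw [← mul_assoc, ← map_mul, ← hu, Units.inv_mul, map_one, one_mul], h0]
            refine Ideal.mul_mem_left _ _ (neg_mem (Ideal.sum_mem _ fun a ha => Ideal.mul_mem_left _ _ ?_))
            exact Ideal.subset_span ⟨a, ha, rfl⟩
          · exact Ideal.subset_span ⟨v, Finset.mem_coe.2 (Finset.mem_erase.2 ⟨hvw, hv⟩), rfl⟩
        · rw [Ideal.span_le]
          rintro _ ⟨v, hv, rfl⟩
          exact Ideal.mem_map_of_mem _ (hsp ▸ Ideal.subset_span (Finset.mem_of_mem_erase hv))
      have h := Submodule.spanFinrank_span_le_ncard_of_finite (R := B ⧸ Ideal.span {z})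
        ((s.erase w).finite_toSet.image (Ideal.Quotient.mk (Ideal.span {z})))
      rw [← Ideal.span, ← hle] at h
      have h' := (Set.ncard_image_le (f := Ideal.Quotient.mk (Ideal.span {z})) (s.erase w).finite_toSet).trans_eq
        (Set.ncard_coe_finset (s.erase w) |>.trans (Finset.card_erase_of_mem hws))
      have hpos : 0 < s.card := Finset.card_pos.2 ⟨w, hws⟩
      omega

end Groth.Agent.CIDevLib
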