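import Groth.Agent.CIDevLib.Flat

/-!
# Embedding dimension and deviation of complete local presentations
-/

set_option autoImplicit false
set_option linter.style.haveILetI false
universe u

open IsLocalRing

namespace Groth.Agent.CIDevLib

/-- The coefficients of a relation between minimal generators are not units. -/
theorem coeff_mem_of_minimal {A : Type u} [CommRing A] [IsNoetherianRing A] [IsLocalRing A] {e : ℕ} (x : Fin e → A)
    (hx : Ideal.span (Set.range x) = maximalIdeal A) (he : (maximalIdeal A).spanFinrank = e)
    (c : Fin e → A) (hc : ∑ i, c i * x i = 0) (i : Fin e) : c i ∈ maximalIdeal A := by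
  classical
  refine (mem_maximalIdeal _).2 fun hu => ?_
  obtain ⟨q, hq⟩ := hu
  have hle : maximalIdeal A = Ideal.span (x '' ((Finset.univ.erase i : Finset (Fin e)) : Set (Fin e))) := by
    conv_lhs => rw [← hx]
    refine le_antisymm (Ideal.span_le.2 ?_) (Ideal.span_mono (Set.image_subset_range _ _))
    rintro _ ⟨j, rfl⟩
    by_cases hj : j = i
    · subst hj
      rw [← Finset.add_sum_erase Finset.univ _ (Finset.mem_univ j), add_eq_zero_iff_eq_neg, ← hq] at hc
      have : x j = ↑q⁻¹ * -∑ k ∈ Finset.univ.erase j, c k * x k := by rw [← hc, ← mul_assoc, Units.inv_mul, one_mul]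
      rw [SetLike.mem_coe, this]
      exact Ideal.mul_mem_left _ _ (neg_mem (Ideal.sum_mem _ fun k hk => Ideal.mul_mem_left _ _
        (Ideal.subset_span ⟨k, hk, rfl⟩)))
    · exact Ideal.subset_span ⟨j, Finset.mem_coe.2 (Finset.mem_erase.2 ⟨hj, Finset.mem_univ j⟩), rfl⟩
  have h : (maximalIdeal A).spanFinrank ≤ (Finset.univ.erase i : Finset (Fin e)).card := by
    conv_lhs => rw [hle]
    refine (Submodule.spanFinrank_span_le_ncard_of_finite ((Finset.finite_toSet _).image x)).trans ?_
    exact (Set.ncard_image_le (Finset.finite_toSet _)).trans_eq (Set.ncard_coe_finset _)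
  rw [he, Finset.card_erase_of_mem (Finset.mem_univ i), Finset.card_univ, Fintype.card_fin] at h
  have := i.pos
  omega

variable {A A' : Type u} [CommRing A] [CommRing A'] [Algebra A A'] [Module.Flat A A']
  [IsLocalRing A] [IsNoetherianRing A] [IsLocalRing A'] [IsNoetherianRing A'] [IsLocalHom (algebraMap A A')]
  {e : ℕ} (x : Fin e → A) (hx : Ideal.span (Set.range x) = maximalIdeal A)
  (hmax : (maximalIdeal A).map (algebraMap A A') = maximalIdeal A')

omit [Module.Flat A A'] [IsNoetherianRing A] [IsNoetherianRing A'] [IsLocalHom (algebraMap A A')] in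
include hx hmax in
theorem span_map : Ideal.span (Set.range fun i => algebraMap A A' (x i)) = maximalIdeal A' := by
  rw [← hmax, ← hx, Ideal.map_span, ← Set.range_comp]
  rfl

include hx hmax in
theorem spanFinrank_map (he : (maximalIdeal A).spanFinrank = e) : (maximalIdeal A').spanFinrank = e := by
  classical
  refine le_antisymm ?_ ?_
  · rw [← span_map x hx hmax]
    refine (Submodule.spanFinrank_span_le_ncard_of_finite (Set.finite_range _)).trans ?_
    rw [← Set.image_univ]
    exact (Set.ncard_image_le Set.finite_univ).trans_eq (by rw [Set.ncard_univ, Nat.card_fin])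
  · obtain ⟨g, hg⟩ := RegLocal.exists_generators (R := A')
    have hM : ∀ i, ∃ M : Fin (maximalIdeal A').spanFinrank → A', ∑ l, M l * g l = algebraMap A A' (x i) := fun i =>
      Ideal.mem_span_range_iff_exists_fun.1 (by rw [hg, ← span_map x hx hmax]; exact Ideal.subset_span ⟨i, rfl⟩)
    have hN : ∀ l, ∃ N : Fin e → A', ∑ i, N i * algebraMap A A' (x i) = g l := fun l =>
      Ideal.mem_span_range_iff_exists_fun.1 (by rw [span_map x hx hmax, ← hg]; exact Ideal.subset_span ⟨l, rfl⟩)
    choose M hM using hM
    choose N hN using hN
    let φ : (Fin e → ResidueField A') →ₗ[ResidueField A'] (Fin (maximalIdeal A').spanFinrank → ResidueField A') :=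
      Matrix.vecMulLinear (Matrix.of fun j l => residue A' (M j l))
    have hφ : Function.Injective φ := by
      refine (injective_iff_map_eq_zero φ).2 fun v hv => ?_
      choose u hu using fun j => residue_surjective (v j)
      have hm : ∀ l, ∑ j, u j * M j l ∈ maximalIdeal A' := fun l => by
        rw [← residue_eq_zero_iff, map_sum]
        simp only [map_mul, hu]
        exact congrFun hv l
      let w : Fin e → A' := fun k => u k - ∑ l, (∑ j, u j * M j l) * N l k
      have hw : ∑ k, x k • w k = 0 := by
        simp only [w, Algebra.smul_def, mul_sub, Finset.sum_sub_distrib, sub_eq_zero, Finset.mul_sum]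
        rw [Finset.sum_comm]
        calc ∑ k, algebraMap A A' (x k) * u k = ∑ k, u k * ∑ l, M k l * g l :=
              Finset.sum_congr rfl fun k _ => by rw [hM k, mul_comm]
          _ = ∑ l, (∑ k, u k * M k l) * g l := by
              simp only [Finset.mul_sum, Finset.sum_mul]
              rw [Finset.sum_comm]
              simp [mul_assoc]
          _ = _ := Finset.sum_congr rfl fun l _ => by
              rw [← hN l, Finset.mul_sum]
              exact Finset.sum_congr rfl fun k _ => by ring
      obtain ⟨s, z, c, hc, hwc⟩ := exists_flat_solution (fun _ : Fin 1 => x) w fun _ => hw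
      funext k
      have hwk : w k ∈ maximalIdeal A' := by
        rw [hwc k]
        refine Ideal.sum_mem _ fun l _ => ?_
        rw [Algebra.smul_def, ← hmax]
        exact Ideal.mul_mem_right _ _ (Ideal.mem_map_of_mem _
          (coeff_mem_of_minimal x hx he (c l) (by simpa [mul_comm] using hc 0 l) k))
      rw [← residue_eq_zero_iff, map_sub, map_sum] at hwk
      rw [Pi.zero_apply, ← hu k]
      refine (sub_eq_zero.1 hwk).trans (Finset.sum_eq_zero fun l _ => ?_)
      rw [map_mul, (residue_eq_zero_iff _).2 (hm l), zero_mul]
    simpa using LinearMap.finrank_le_finrank_of_injective hφ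

omit [Module.Flat A A'] [IsLocalRing A'] [IsNoetherianRing A'] [IsLocalHom (algebraMap A A')] [Algebra A A'] [CommRing A'] in
include hx in
/-- A presentation of the completion computes the deviation. -/
theorem sub_spanFinrank_of_completion (he : (maximalIdeal A).spanFinrank = e) (B : Type u) [CommRing B]
    [IsRegularLocalRing B] (I : Ideal B) (hpres : Nonempty (AdicCompletion (maximalIdeal A) A ≃+* B ⧸ I)) (d : ℕ)
    (hd : ringKrullDim B = d) : (d : ℤ) - I.spanFinrank = (e : ℤ) - dev x := by
  obtain ⟨φ⟩ := hpres
  have hI : maximalIdeal A ≠ ⊤ := (maximalIdeal.isMaximal A).ne_top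
  let C := AdicCompletion (maximalIdeal A) A
  haveI : IsLocalRing C := RegLocal.isLocalRing_completion A _ hI
  haveI : Module.FaithfullyFlat A C := RegLocal.faithfullyFlat_completion A _ hI
  have hmaxC : maximalIdeal C = (maximalIdeal A).map (algebraMap A C) := RegLocal.maximalIdeal_completion A _ hI
  haveI : IsLocalHom (algebraMap A C) := ((local_hom_TFAE _).out 0 2).mpr hmaxC.ge
  let f : B →+* C := φ.symm.toRingHom.comp (Ideal.Quotient.mk I)
  have hf : Function.Surjective f := φ.symm.surjective.comp Ideal.Quotient.mk_surjective
  haveI : IsNoetherianRing C := isNoetherianRing_of_surjective B C f hf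
  have hker : RingHom.ker f = I := by
    ext z
    simp [f, RingHom.mem_ker, Ideal.Quotient.eq_zero_iff_mem]
  have h := sub_spanFinrank_ker (fun i => algebraMap A C (x i)) (span_map x hx hmaxC.symm)
    (spanFinrank_map x hx hmaxC.symm he) d B f hf hd
  rw [hker, dev_map x] at h
  exact h

end Groth.Agent.CIDevLib
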