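import Groth.Agent.CIDevLib.Basic
import Groth.Agent.RegLocal.Completion

/-!
# The deviation under flat extensions
-/

set_option autoImplicit false
set_option linter.style.haveILetI false
universe u

open IsLocalRing

namespace Groth.Agent.CIDevLib

variable {A A' : Type u} [CommRing A] [CommRing A'] [Algebra A A'] [Module.Flat A A']

/-- Solutions of a linear system over a flat algebra come from the base. -/
theorem exists_flat_solution {ι : Type} [Fintype ι] [DecidableEq ι] :
    ∀ {n : ℕ} (L : Fin n → ι → A) (u : ι → A'), (∀ k, ∑ i, L k i • u i = 0) →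
      ∃ (s : ℕ) (z : Fin s → A') (c : Fin s → ι → A), (∀ k l, ∑ i, L k i * c l i = 0) ∧
        ∀ i, u i = ∑ l, c l i • z l
  | 0, L, u, _ => by
    let φ := Fintype.equivFin ι
    refine ⟨Fintype.card ι, fun l => u (φ.symm l), fun l => Pi.single (φ.symm l) 1, fun k => k.elim0, fun i => ?_⟩
    rw [Finset.sum_eq_single (φ i)]
    · simp
    · intro l _ hl
      have : i ≠ φ.symm l := fun h => hl (by rw [h, Equiv.apply_symm_apply])
      simp [Pi.single_eq_of_ne this]
    · simp
  | n + 1, L, u, h => by
    obtain ⟨s, z, c, hc, hu⟩ := exists_flat_solution (fun k => L k.castSucc) u fun k => h k.castSucc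
    have h0 : ∑ l, (∑ i, L (Fin.last n) i * c l i) • z l = 0 := by
      simp only [Finset.sum_smul]
      rw [Finset.sum_comm]
      refine Eq.trans (Finset.sum_congr rfl fun i _ => ?_) (h (Fin.last n))
      rw [hu i, Finset.smul_sum]
      simp [mul_smul]
    obtain ⟨t, a, y, hy, ha⟩ := Module.Flat.isTrivialRelation_of_sum_smul_eq_zero (R := A) (M := A') h0
    refine ⟨t, y, fun m i => ∑ l, a l m * c l i, fun k m => ?_, fun i => ?_⟩
    · simp only [Finset.mul_sum]
      rw [Finset.sum_comm]
      induction k using Fin.lastCases with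
      | last =>
        refine Eq.trans (Finset.sum_congr rfl fun l _ => ?_) (ha m)
        rw [Finset.sum_mul]
        exact Finset.sum_congr rfl fun i _ => by ring
      | cast k =>
        refine Finset.sum_eq_zero fun l _ => ?_
        rw [show ∑ i, L k.castSucc i * (a l m * c l i) = a l m * ∑ i, L k.castSucc i * c l i by
          rw [Finset.mul_sum]; exact Finset.sum_congr rfl fun i _ => by ring, hc k l, mul_zero]
    · rw [hu i]
      simp only [hy, Finset.smul_sum, Finset.sum_smul]
      rw [Finset.sum_comm]
      exact Finset.sum_congr rfl fun m _ => Finset.sum_congr rfl fun l _ => by rw [smul_smul, mul_comm]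

variable [IsLocalRing A] [IsNoetherianRing A] [IsLocalRing A'] [IsNoetherianRing A']
  [IsLocalHom (algebraMap A A')] {e : ℕ} (x : Fin e → A)

omit [IsLocalRing A'] [IsNoetherianRing A'] [IsLocalHom (algebraMap A A')] [IsLocalRing A] [IsNoetherianRing A]
  [Module.Flat A A'] in
theorem map_triv {v : Fin e → A} (hv : v ∈ Triv x) :
    (fun i => algebraMap A A' (v i)) ∈ Triv fun i => algebraMap A A' (x i) := by
  induction hv using Submodule.span_induction with
  | mem v hv =>
    obtain ⟨i, j, rfl⟩ := hv
    convert triv_mem (fun i => algebraMap A A' (x i)) (i := i) (j := j) using 1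
    ext k
    simp [Pi.single_apply, apply_ite (algebraMap A A')]
  | zero =>
    rw [show (fun i => algebraMap A A' ((0 : Fin e → A) i)) = 0 from funext fun i => map_zero _]
    exact zero_mem _
  | add v w _ _ hv hw => simpa [Pi.add_def] using add_mem hv hw
  | smul c v _ hv =>
    convert Submodule.smul_mem _ (algebraMap A A' c) hv using 1
    ext k
    simp

/-- The deviation does not change in a flat extension. -/
theorem dev_map : dev (fun i => algebraMap A A' (x i)) = dev x := by
  classical
  let x' := fun i => algebraMap A A' (x i)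
  obtain ⟨a, ha⟩ := exists_gen_dev x
  let a' := fun j i => algebraMap A A' (a j i)
  have hgen : Gen x' a' := by
    refine le_antisymm (sup_le (Submodule.span_le.2 ?_) (triv_le_rel x')) fun u hu => ?_
    · rintro _ ⟨j, rfl⟩
      refine (mem_rel x').2 ?_
      have h := (mem_rel x).1 (ha.le (Submodule.mem_sup_left (Submodule.subset_span ⟨j, rfl⟩)))
      simp only [a', x', ← map_mul, ← map_sum, h, map_zero]
    · rw [mem_rel] at hu
      obtain ⟨s, z, c, hc, hu'⟩ := exists_flat_solution (ι := Fin e) (fun _ : Fin 1 => x) u (fun _ => by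
        refine Eq.trans (Finset.sum_congr rfl fun i _ => ?_) hu
        rw [Algebra.smul_def, mul_comm])
      have hu2 : u = ∑ l, z l • fun i => algebraMap A A' (c l i) := funext fun i => by
        simp [hu' i, Algebra.smul_def, mul_comm]
      rw [hu2]
      refine Submodule.sum_mem _ fun l _ => Submodule.smul_mem _ _ ?_
      have hcl : c l ∈ Rel x := (mem_rel x).2 (by simpa [mul_comm] using hc 0 l)
      rw [← ha] at hcl
      obtain ⟨v, hv, t, ht, hvt⟩ := Submodule.mem_sup.1 hcl
      obtain ⟨w, rfl⟩ := (Submodule.mem_span_range_iff_exists_fun A).1 hv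
      rw [show (fun i => algebraMap A A' (c l i)) =
        (∑ j, algebraMap A A' (w j) • a' j) + fun i => algebraMap A A' (t i) by ext i; simp [a', ← hvt, Algebra.smul_def]]
      exact Submodule.add_mem_sup
        (Submodule.sum_mem _ fun j _ => Submodule.smul_mem _ _ (Submodule.subset_span ⟨j, rfl⟩)) (map_triv x ht)
  refine le_antisymm (dev_le _ hgen) ?_
  -- the generators stay independent modulo the maximal ideal
  have hind : ∀ u : Fin (dev x) → A', ∑ j, u j • a' j ∈ Triv x' → ∀ j, u j ∈ maximalIdeal A' := by
    intro u hu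
    have hT : Triv x' = Submodule.span A' (Set.range fun p : Fin e × Fin e =>
        Pi.single p.1 (x' p.2) - Pi.single p.2 (x' p.1)) := by
      refine congrArg (Submodule.span A') (Set.ext fun v => ?_)
      exact ⟨fun ⟨i, j, h⟩ => ⟨(i, j), h.symm⟩, fun ⟨p, h⟩ => ⟨p.1, p.2, h.symm⟩⟩
    rw [hT, Submodule.mem_span_range_iff_exists_fun] at hu
    obtain ⟨w, hw⟩ := hu
    let v : Fin e × Fin e → Fin e → A := fun p => Pi.single p.1 (x p.2) - Pi.single p.2 (x p.1)
    have hv : ∀ p, (fun i => algebraMap A A' (v p i)) = Pi.single p.1 (x' p.2) - Pi.single p.2 (x' p.1) := fun p => by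
      ext k; simp [v, x', Pi.single_apply, apply_ite (algebraMap A A')]
    obtain ⟨s, z, c, hc, hu'⟩ := exists_flat_solution (ι := Fin (dev x) ⊕ (Fin e × Fin e))
      (fun k => Sum.elim (fun j => a j k) (fun p => - v p k)) (Sum.elim u w) (fun k => by
        rw [Fintype.sum_sum_type]
        simp only [Sum.elim_inl, Sum.elim_inr, neg_smul, Finset.sum_neg_distrib]
        rw [← sub_eq_add_neg, sub_eq_zero]
        have := congrFun hw k
        simp only [Finset.sum_apply, Pi.smul_apply, smul_eq_mul, ← hv] at this
        refine (Eq.trans ?_ this.symm).trans ?_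
        · exact Finset.sum_congr rfl fun j _ => by simp [a', Algebra.smul_def, mul_comm]
        · exact Finset.sum_congr rfl fun p _ => by simp [Algebra.smul_def, mul_comm])
    intro j
    have hj : u j = ∑ l, c l (Sum.inl j) • z l := hu' (Sum.inl j)
    rw [hj]
    refine Ideal.sum_mem _ fun l _ => ?_
    rw [Algebra.smul_def]
    refine Ideal.mul_mem_right _ _ ((mem_maximalIdeal _).2 fun hunit => ?_)
    have hcu : IsUnit (c l (Sum.inl j)) := IsUnit.of_map (algebraMap A A') _ hunit
    obtain ⟨q, hq⟩ := hcu
    have hsum : ∑ i, c l (Sum.inl i) • a i = ∑ p, c l (Sum.inr p) • v p := by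
      ext k
      have h := hc k l
      rw [Fintype.sum_sum_type] at h
      simp only [Sum.elim_inl, Sum.elim_inr, neg_mul, Finset.sum_neg_distrib] at h
      rw [← sub_eq_add_neg, sub_eq_zero] at h
      simpa [mul_comm] using h
    have hmem : ∑ p, c l (Sum.inr p) • v p ∈ Triv x :=
      Submodule.sum_mem _ fun p _ => Submodule.smul_mem _ _ (triv_mem x)
    have hd : 0 < dev x := Fin.pos j
    obtain ⟨r, hr⟩ : ∃ r, dev x = r + 1 := ⟨dev x - 1, by omega⟩
    let b : Fin r → Fin e → A := fun i => a (Fin.cast hr.symm ((Fin.cast hr j).succAbove i))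
    suffices hb : Gen x b by have := dev_le x hb; omega
    have hother : ∀ i, i ≠ j → a i ∈ Submodule.span A (Set.range b) ⊔ Triv x := fun i hi => by
      obtain ⟨i', hi'⟩ := Fin.exists_succAbove_eq (x := Fin.cast hr i) (y := Fin.cast hr j)
        (fun h => hi (Fin.cast_injective hr h))
      refine Submodule.mem_sup_left (Submodule.subset_span ⟨i', ?_⟩)
      simp [b, hi']
    refine le_antisymm (sup_le (Submodule.span_le.2 ?_) (triv_le_rel x)) ?_
    · rintro _ ⟨i, rfl⟩
      exact ha.le (Submodule.mem_sup_left (Submodule.subset_span ⟨_, rfl⟩))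
    · rw [← ha]
      refine sup_le (Submodule.span_le.2 ?_) le_sup_right
      rintro _ ⟨i, rfl⟩
      by_cases hi : i = j
      · subst hi
        rw [← Finset.add_sum_erase Finset.univ _ (Finset.mem_univ i), ← eq_sub_iff_add_eq] at hsum
        have : a i = (↑q⁻¹ : A) • (∑ p, c l (Sum.inr p) • v p - ∑ t ∈ Finset.univ.erase i, c l (Sum.inl t) • a t) := by
          rw [← hsum, smul_smul, ← hq, Units.inv_mul, one_smul]
        rw [SetLike.mem_coe, this]
        refine Submodule.smul_mem _ _ (sub_mem (Submodule.mem_sup_right hmem) (Submodule.sum_mem _ fun t ht =>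
          Submodule.smul_mem _ _ (hother t (Finset.ne_of_mem_erase ht))))
      · exact hother i hi
  obtain ⟨b, hb⟩ := exists_gen_dev x'
  have hab : ∀ j, ∃ M : Fin (dev x') → A', a' j - ∑ l, M l • b l ∈ Triv x' := fun j => by
    have h : a' j ∈ Rel x' := hgen.le (Submodule.mem_sup_left (Submodule.subset_span ⟨j, rfl⟩))
    rw [← hb] at h
    obtain ⟨v, hv, t, ht, hvt⟩ := Submodule.mem_sup.1 h
    obtain ⟨w, rfl⟩ := (Submodule.mem_span_range_iff_exists_fun A').1 hv
    exact ⟨w, by rw [← hvt, add_sub_cancel_left]; exact ht⟩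
  choose M hM using hab
  let φ : (Fin (dev x) → ResidueField A') →ₗ[ResidueField A'] (Fin (dev x') → ResidueField A') :=
    Matrix.vecMulLinear (Matrix.of fun j l => residue A' (M j l))
  have hφ : Function.Injective φ := by
    refine (injective_iff_map_eq_zero φ).2 fun v hv => ?_
    choose u hu using fun j => residue_surjective (v j)
    have hm : ∀ l, ∑ j, u j * M j l ∈ maximalIdeal A' := fun l => by
      rw [← residue_eq_zero_iff, map_sum]
      simp only [map_mul, hu]
      exact congrFun hv l
    have hba : ∀ l, ∃ N : Fin (dev x) → A', b l - ∑ j, N j • a' j ∈ Triv x' := fun l => by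
      have h : b l ∈ Rel x' := hb.le (Submodule.mem_sup_left (Submodule.subset_span ⟨l, rfl⟩))
      rw [← hgen] at h
      obtain ⟨v, hv, t, ht, hvt⟩ := Submodule.mem_sup.1 h
      obtain ⟨w, rfl⟩ := (Submodule.mem_span_range_iff_exists_fun A').1 hv
      exact ⟨w, by rw [← hvt, add_sub_cancel_left]; exact ht⟩
    choose N hN using hba
    have hmain := hind (fun k => u k - ∑ l, (∑ j, u j * M j l) * N l k) (by
      have hT1 : ∑ j, u j • (a' j - ∑ l, M j l • b l) +
          ∑ l, (∑ j, u j * M j l) • (b l - ∑ k, N l k • a' k) ∈ Triv x' :=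
        add_mem (Submodule.sum_mem _ fun j _ => Submodule.smul_mem _ _ (hM j))
          (Submodule.sum_mem _ fun l _ => Submodule.smul_mem _ _ (hN l))
      refine Eq.subst (motive := fun z => z ∈ Triv x') ?_ hT1
      simp only [smul_sub, Finset.sum_sub_distrib, Finset.smul_sum, Finset.sum_smul, sub_smul, smul_smul]
      rw [Finset.sum_comm (f := fun l j => (u j * M j l) • b l),
        Finset.sum_comm (f := fun (l : Fin (dev x')) (k : Fin (dev x)) => ((∑ j, u j * M j l) * N l k) • a' k)]
      abel)
    funext k
    have h := hmain k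
    rw [← residue_eq_zero_iff, map_sub, map_sum] at h
    rw [Pi.zero_apply, ← hu k]
    refine (sub_eq_zero.1 h).trans (Finset.sum_eq_zero fun l _ => ?_)
    rw [map_mul, (residue_eq_zero_iff _).2 (hm l), zero_mul]
  simpa using LinearMap.finrank_le_finrank_of_injective hφ

end Groth.Agent.CIDevLib
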